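import Groth.Prelude.Def_W4bk4bump814p2PDiff
import Mathlib.RingTheory.WittVector.Teichmuller
import Mathlib.Algebra.MvPolynomial.PDeriv
import Mathlib.Algebra.CharP.Defs
import Mathlib.Algebra.CharP.Algebra
import Mathlib.Algebra.Module.BigOperators
import Mathlib.Tactic.Ring

/-! The subsets `sigma` are subgroups generated by the lower `delta`. -/

set_option autoImplicit false
universe u v

namespace Groth.Agent.PDiffSigma

open MvPolynomial W4bk4bump814p2

/-- universal sum of two Teichmüller lifts -/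
noncomputable def w (p : ℕ) [Fact p.Prime] : WittVector p (MvPolynomial (Fin 2) ℤ) :=
  WittVector.teichmuller p (X 0) + WittVector.teichmuller p (X 1)

theorem ghost_w (p : ℕ) [Fact p.Prime] (i : ℕ) :
    ∑ j ∈ Finset.range (i + 1), (p : MvPolynomial (Fin 2) ℤ) ^ j * (w p).coeff j ^ p ^ (i - j) =
      X 0 ^ p ^ i + X 1 ^ p ^ i := by
  rw [← WittVector.ghostComponent_teichmuller (p := p) (X 0 : MvPolynomial (Fin 2) ℤ) i,
    ← WittVector.ghostComponent_teichmuller (p := p) (X 1 : MvPolynomial (Fin 2) ℤ) i, ← map_add,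
    WittVector.ghostComponent_apply, wittPolynomial_eq_sum_C_mul_X_pow, map_sum]
  refine Finset.sum_congr rfl fun j _ => ?_
  simp [w]

theorem w_zero (p : ℕ) [Fact p.Prime] : (w p).coeff 0 = X 0 + X 1 := by
  simpa using ghost_w p 0

theorem pderiv_identity (p : ℕ) [Fact p.Prime] (i : ℕ) (k : Fin 2) :
    ∑ j ∈ Finset.range (i + 1), (w p).coeff j ^ (p ^ (i - j) - 1) * pderiv k ((w p).coeff j) =
      X 0 ^ (p ^ i - 1) * pderiv k (X 0) + X 1 ^ (p ^ i - 1) * pderiv k (X 1 : MvPolynomial (Fin 2) ℤ) := by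
  have hpow : ∀ (f : MvPolynomial (Fin 2) ℤ) (n : ℕ), pderiv k (f ^ n) = (n : MvPolynomial (Fin 2) ℤ) * (f ^ (n - 1) * pderiv k f) := fun f n => by
    rw [Derivation.leibniz_pow, nsmul_eq_mul, smul_eq_mul]
  have h := congrArg (pderiv k) (ghost_w p i)
  rw [map_sum, map_add] at h
  have hp : (p : MvPolynomial (Fin 2) ℤ) ^ i ≠ 0 := pow_ne_zero _ (Nat.cast_ne_zero.2 (Fact.out : p.Prime).ne_zero)
  refine mul_left_cancel₀ hp ?_
  rw [Finset.mul_sum, mul_add]
  refine (Finset.sum_congr rfl fun j hj => ?_).trans (h.trans ?_)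
  · rw [pderiv_mul, hpow, hpow, Derivation.map_natCast (pderiv k) p]
    rw [Finset.mem_range] at hj
    obtain ⟨m, rfl⟩ := Nat.exists_eq_add_of_le (Nat.lt_succ_iff.1 hj)
    rw [Nat.add_sub_cancel_left, pow_add]
    push_cast
    ring
  · rw [hpow, hpow]
    push_cast
    ring

variable (K : Type u) (A : Type v) [CommRing K] [CommRing A] [Algebra K A] (p : ℕ) [Fact p.Prime]

theorem D_aeval (v : Fin 2 → A) (f : MvPolynomial (Fin 2) ℤ) :
    KaehlerDifferential.D K A (aeval v f) = aeval v (pderiv 0 f) • KaehlerDifferential.D K A (v 0) +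
      aeval v (pderiv 1 f) • KaehlerDifferential.D K A (v 1) := by
  induction f using MvPolynomial.induction_on with
  | C a => simp
  | add f g hf hg => simp only [map_add, hf, hg, add_smul]; abel
  | mul_X f i hf =>
    simp only [map_mul, aeval_X, Derivation.leibniz, hf, pderiv_mul, map_add, add_smul, smul_add, smul_smul]
    fin_cases i <;> simp [pderiv_X, smul_smul] <;> module

theorem delta_add_eq (i : ℕ) (x y : A) :
    delta K A p i x + delta K A p i y =
      ∑ j ∈ Finset.range (i + 1), delta K A p (i - j) (aeval ![x, y] ((w p).coeff j)) := by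
  have hk := fun k => congrArg (aeval ![x, y]) (pderiv_identity p i k)
  have h0 := hk 0
  have h1 := hk 1
  simp only [map_sum, map_add, map_mul, map_pow, aeval_X, pderiv_X_self, map_one, mul_one, Matrix.cons_val_zero,
    Matrix.cons_val_one, pderiv_X_of_ne (show (1 : Fin 2) ≠ 0 by decide), pderiv_X_of_ne (show (0 : Fin 2) ≠ 1 by decide),
    map_zero, mul_zero, add_zero, zero_add] at h0 h1
  unfold delta
  rw [← h0, ← h1, Finset.sum_smul, Finset.sum_smul, ← Finset.sum_add_distrib]
  refine Finset.sum_congr rfl fun j _ => ?_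
  rw [D_aeval K A, smul_add, smul_smul, smul_smul]
  simp

/-- subgroup generated by lower deltas -/
noncomputable def gen (i : ℕ) : AddSubgroup (Ω[A⁄K]) := AddSubgroup.closure (⋃ j ∈ Finset.range i, Set.range (delta K A p j))

omit [Fact p.Prime] in
theorem delta_mem_gen {j i : ℕ} (h : j < i) (x : A) : delta K A p j x ∈ gen K A p i :=
  AddSubgroup.subset_closure (Set.mem_biUnion (Finset.mem_range.2 h) ⟨x, rfl⟩)

theorem delta_add_mem (i : ℕ) (x y : A) :
    delta K A p i (x + y) - delta K A p i x - delta K A p i y ∈ gen K A p i := by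
  rw [sub_sub, delta_add_eq K A p i x y, Finset.sum_range_succ' _ i, Nat.sub_zero, w_zero, map_add, aeval_X, aeval_X]
  simp only [Matrix.cons_val_zero, Matrix.cons_val_one, sub_add_cancel_right]
  exact neg_mem (sum_mem fun j hj => delta_mem_gen K A p (by rw [Finset.mem_range] at hj; omega) _)

omit [Fact p.Prime] in
theorem delta_zero (i : ℕ) : delta K A p i 0 = 0 := by simp [delta]

theorem sigma_eq : ∀ i : ℕ, sigma K A p i = (gen K A p i : Set (Ω[A⁄K]))
  | 0 => by simp [gen]
  | i + 1 => by
    have ih := sigma_eq i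
    let G : AddSubgroup (Ω[A⁄K]) :=
      { carrier := {ω | ∃ x : A, ω - delta K A p i x ∈ gen K A p i}
        zero_mem' := ⟨0, by simp [delta_zero]⟩
        add_mem' := fun {a b} ⟨x, hx⟩ ⟨y, hy⟩ => ⟨x + y, by
          have := (gen K A p i).sub_mem ((gen K A p i).add_mem hx hy) (delta_add_mem K A p i x y)
          convert this using 1
          abel⟩
        neg_mem' := fun {a} ⟨x, hx⟩ => ⟨-x, by
          have h := delta_add_mem K A p i x (-x)
          rw [add_neg_cancel, delta_zero] at h
          have := (gen K A p i).sub_mem h hx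
          convert this using 1
          abel⟩ }
    rw [sigma_succ, ih]
    change (G : Set (Ω[A⁄K])) = _
    refine congrArg SetLike.coe (le_antisymm (fun ω hω => ?_) ((AddSubgroup.closure_le _).2 ?_) : G = gen K A p (i + 1))
    · obtain ⟨x, hx⟩ := hω
      have h1 : gen K A p i ≤ gen K A p (i + 1) := (AddSubgroup.closure_le _).2 fun z hz => by
        obtain ⟨j, hj, y, rfl⟩ := Set.mem_iUnion₂.1 hz
        exact delta_mem_gen K A p ((Finset.mem_range.1 hj).trans i.lt_succ_self) y
      simpa using add_mem (h1 hx) (delta_mem_gen K A p i.lt_succ_self x)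
    · intro z hz
      obtain ⟨j, hj, y, rfl⟩ := Set.mem_iUnion₂.1 hz
      rcases Nat.lt_succ_iff_lt_or_eq.1 (Finset.mem_range.1 hj) with h | rfl
      · exact ⟨0, by rw [delta_zero, sub_zero]; exact delta_mem_gen K A p h y⟩
      · exact ⟨y, by simp⟩

variable [CharP A p]

theorem pow_smul_delta (j : ℕ) {n : ℕ} (hn : n ≠ 0) (x a : A) :
    x ^ (p ^ n * p ^ j) • delta K A p j a = delta K A p j (x ^ p ^ n * a) := by
  have hd : KaehlerDifferential.D K A (x ^ p ^ n) = 0 := by
    rw [Derivation.leibniz_pow, ← Nat.cast_smul_eq_nsmul A]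
    simp [hn]
  have he : p ^ j = (p ^ j - 1) + 1 := (Nat.sub_add_cancel (Nat.one_le_iff_ne_zero.2 (pow_ne_zero _ (Fact.out : p.Prime).ne_zero))).symm
  rw [delta, delta, Derivation.leibniz, hd, smul_zero, add_zero, smul_smul, smul_smul]
  congr 1
  rw [mul_pow, ← pow_mul]
  generalize p ^ j - 1 = m at he ⊢
  rw [he]
  ring

theorem pow_smul_mem (i : ℕ) (x : A) {ω : Ω[A⁄K]} (hω : ω ∈ gen K A p i) : x ^ p ^ i • ω ∈ gen K A p i := by
  have hle : gen K A p i ≤ (gen K A p i).comap (DistribSMul.toAddMonoidHom _ (x ^ p ^ i)) := by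
    refine (AddSubgroup.closure_le _).2 fun z hz => ?_
    obtain ⟨j, hj, y, rfl⟩ := Set.mem_iUnion₂.1 hz
    rw [Finset.mem_range] at hj
    show x ^ p ^ i • delta K A p j y ∈ gen K A p i
    rw [show p ^ i = p ^ (i - j) * p ^ j by rw [← pow_add]; congr 1; omega, pow_smul_delta K A p j (by omega)]
    exact delta_mem_gen K A p hj _
  exact hle hω

end Groth.Agent.PDiffSigma
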